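import Groth.Prelude.Def_FrobAlg
import Mathlib.RingTheory.AdicCompletion.AsTensorProduct
import Mathlib.RingTheory.Finiteness.Ideal
import Mathlib.RingTheory.RingHom.Finite

/-! The relative Frobenius of an adic completion of an F-finite Noetherian ring is bijective. -/

set_option autoImplicit false
set_option linter.style.haveILetI false
universe u
open scoped TensorProduct
open FrobAlg

namespace Groth.Agent.FrobCompl

variable (p : ℕ) [Fact p.Prime] (A : Type u) [CommRing A] [CharP A p] (I : Ideal A)

theorem smul_toTwist (c a : A) : c • toTwist p A a = toTwist p A (c ^ p * a) := by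
  rw [Algebra.smul_def, algebraMap_twist, map_mul]

theorem toTwist_mem {n : ℕ} {a : A} (ha : a ∈ Ideal.map (frobenius A p) (I ^ n)) :
    toTwist p A a ∈ (I ^ n • ⊤ : Submodule A (Twist p A)) := by
  suffices H : ∀ c : A, toTwist p A (c * a) ∈ (I ^ n • ⊤ : Submodule A (Twist p A)) by simpa using H 1
  induction ha using Submodule.span_induction with
  | mem x hx =>
    obtain ⟨y, hy, rfl⟩ := hx
    intro c
    rw [frobenius_def, mul_comm, ← smul_toTwist]
    exact Submodule.smul_mem_smul hy Submodule.mem_top
  | zero => simp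
  | add x y _ _ hx hy => exact fun c => by rw [mul_add, map_add]; exact add_mem (hx c) (hy c)
  | smul r x _ hx => exact fun c => by rw [smul_eq_mul, ← mul_assoc]; exact hx _

theorem mem_of_toTwist_mem {n : ℕ} {a : A} (ha : toTwist p A a ∈ (I ^ n • ⊤ : Submodule A (Twist p A))) :
    a ∈ I ^ n := by
  suffices H : ∀ m ∈ (I ^ n • ⊤ : Submodule A (Twist p A)), (toTwist p A).symm m ∈ I ^ n by
    simpa using H _ ha
  intro m hm
  refine Submodule.smul_induction_on hm (fun r hr m _ => ?_)
    (fun x y hx hy => by rw [map_add]; exact add_mem hx hy)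
  · obtain ⟨b, rfl⟩ := (toTwist p A).surjective m
    rw [smul_toTwist, RingEquiv.symm_apply_apply]
    exact Ideal.mul_mem_right _ _ (Ideal.pow_mem_of_mem _ hr p (Fact.out : p.Prime).pos)

theorem exists_pow_le [IsNoetherianRing A] (n : ℕ) : ∃ N, I ^ N ≤ Ideal.map (frobenius A p) (I ^ n) := by
  refine Ideal.exists_pow_le_of_le_radical_of_fg_radical (fun x hx => ⟨n * p, ?_⟩) (IsNoetherian.noetherian _)
  rw [pow_mul]
  exact Ideal.mem_map_of_mem (frobenius A p) (Ideal.pow_mem_pow hx n)

variable [CharP (AdicCompletion I A) p]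

/-- the two maps agree level by level -/
theorem exists_rep (w : BaseChange p A (AdicCompletion I A)) (n : ℕ) : ∃ a : A,
    (AdicCompletion.ofTensorProduct I (Twist p A) w).val n = Submodule.Quotient.mk (toTwist p A a) ∧
      (relFrob p A (AdicCompletion I A) w).val n = Submodule.Quotient.mk a := by
  induction w using TensorProduct.induction_on with
  | zero => exact ⟨0, by simp, by simp⟩
  | tmul b m =>
    obtain ⟨a, rfl⟩ := (toTwist p A).surjective m
    obtain ⟨c, hc⟩ := Submodule.Quotient.mk_surjective _ (b.val n)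
    refine ⟨c ^ p * a, ?_, ?_⟩
    · rw [AdicCompletion.ofTensorProduct_tmul, AdicCompletion.smul_eval, AdicCompletion.of_apply, ← hc,
        Submodule.mkQ_apply, ← smul_toTwist, Submodule.Quotient.mk_smul]
      rfl
    · show (b ^ p * algebraMap A (AdicCompletion I A) a).val n = _
      rw [AdicCompletion.val_mul, AdicCompletion.algebraMap_apply, AdicCompletion.of_apply]
      show (b.val n) ^ p * _ = _
      rw [← hc]
      rfl
  | add x y hx hy =>
    obtain ⟨a, ha, ha'⟩ := hx
    obtain ⟨c, hc, hc'⟩ := hy
    exact ⟨a + c, by rw [map_add, AdicCompletion.val_add_apply, ha, hc, map_add, Submodule.Quotient.mk_add],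
      by rw [map_add, AdicCompletion.val_add_apply, ha', hc', Submodule.Quotient.mk_add]⟩

theorem bijective_relFrob [IsNoetherianRing A] [Module.Finite A (Twist p A)] :
    Function.Bijective (relFrob p A (AdicCompletion I A)) := by
  have hT := AdicCompletion.ofTensorProduct_bijective_of_finite_of_isNoetherian I (Twist p A)
  have hI : ∀ n, (I ^ n • ⊤ : Ideal A) = I ^ n := fun n => by simp
  choose N₀ hN₀ using exists_pow_le p A I
  let N : ℕ → ℕ := fun n => n + ∑ k ∈ Finset.range (n + 1), N₀ k
  have hN : ∀ {m n}, m ≤ n → I ^ N n ≤ Ideal.map (frobenius A p) (I ^ m) := fun {m n} h =>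
    (Ideal.pow_le_pow_right ((Finset.single_le_sum (fun k _ => Nat.zero_le (N₀ k))
      (Finset.mem_range.2 (Nat.lt_succ_of_le h))).trans (Nat.le_add_left _ _))).trans (hN₀ m)
  constructor
  · rw [injective_iff_map_eq_zero]
    intro w hw
    refine hT.1 (AdicCompletion.ext fun n => ?_)
    obtain ⟨a, ha, ha'⟩ := exists_rep p A I w (N n)
    rw [hw, AdicCompletion.val_zero_apply, eq_comm, Submodule.Quotient.mk_eq_zero, hI] at ha'
    have hn : n ≤ N n := Nat.le_add_right _ _
    rw [map_zero, AdicCompletion.val_zero_apply]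
    refine ((AdicCompletion.ofTensorProduct I (Twist p A) w).2 hn).symm.trans ?_
    rw [ha]
    exact (Submodule.Quotient.mk_eq_zero _).2 (toTwist_mem p A I (hN le_rfl ha'))
  · intro y
    obtain ⟨r, rfl⟩ := AdicCompletion.mk_surjective I A y
    have hz : ∀ m, toTwist p A (r (N m)) ≡ toTwist p A (r (N (m + 1)))
        [SMOD (I ^ m • ⊤ : Submodule A (Twist p A))] := fun m => by
      rw [SModEq.sub_mem, ← map_sub]
      refine toTwist_mem p A I (hN le_rfl ?_)
      rw [← hI]
      refine SModEq.sub_mem.1 (r.2 ?_)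
      exact Nat.add_le_add (Nat.le_succ m)
        (Finset.sum_le_sum_of_subset (Finset.range_subset_range.2 (by omega)))
    obtain ⟨w, hw⟩ := hT.2 (AdicCompletion.mk I (Twist p A)
      (AdicCompletion.AdicCauchySequence.mk I _ (fun m => toTwist p A (r (N m))) hz))
    refine ⟨w, AdicCompletion.ext fun m => ?_⟩
    obtain ⟨a, ha, ha'⟩ := exists_rep p A I w m
    rw [hw] at ha
    rw [ha', AdicCompletion.mk_apply_coe, Submodule.mkQ_apply,
      ← AdicCompletion.AdicCauchySequence.mk_eq_mk (show m ≤ N m from Nat.le_add_right _ _) r,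
      Submodule.Quotient.eq, hI]
    have h2 : toTwist p A (r (N m)) - toTwist p A a ∈ (I ^ m • ⊤ : Submodule A (Twist p A)) :=
      (Submodule.Quotient.eq _).1 ha
    rw [← map_sub] at h2
    exact neg_sub (r (N m)) a ▸ neg_mem (mem_of_toTwist_mem p A I h2)

end Groth.Agent.FrobCompl
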